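import Groth.Agent.FlatMorLib.FibreCriteria
import Groth.Agent.GrpSch.TangentMul
import Groth.Agent.GrpSch.AbRigid
import Groth.Prelude.Def_Red
import Mathlib

/-!
# The `n`-th power map of a smooth commutative group scheme is etale when `n` is invertible
-/

set_option autoImplicit false
set_option backward.isDefEq.respectTransparency false

universe u

open CategoryTheory Limits MonoidalCategory CartesianMonoidalCategory MonObj GrpObj AlgebraicGeometry

namespace Groth.Agent.PowEtale

variable {S : Scheme.{u}}

/-- base change commutes with power maps -/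
lemma bc_map_pow {S' : Scheme.{u}} (s : S' ⟶ S) (B : Over S) [GrpObj B] (n : ℕ) :
    (Over.pullback s).map ((𝟙 B : B ⟶ B) ^ n) = (𝟙 (Red.bc s B) : _ ⟶ _) ^ n := by
  induction n with
  | zero => rw [pow_zero, pow_zero]; exact Functor.map_one _
  | succ n ih => rw [pow_succ, pow_succ, Functor.map_mul, ih, CategoryTheory.Functor.map_id]

/-- a square exhibiting the base change of a morphism over `S` -/
lemma isPullback_bc_map {S' : Scheme.{u}} (s : S' ⟶ S) {B C : Over S} (u : B ⟶ C) :
    IsPullback (pullback.fst B.hom s) ((Over.pullback s).map u).left u.left (pullback.fst C.hom s) := by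
  refine IsPullback.of_bot ?_ (pullback.lift_fst _ _ _).symm (IsPullback.of_hasPullback C.hom s)
  have e1 : ((Over.pullback s).map u).left ≫ pullback.snd C.hom s = pullback.snd B.hom s :=
    pullback.lift_snd _ _ _
  rw [e1, Over.w u]
  exact IsPullback.of_hasPullback _ _

/-- power maps are homomorphisms in a commutative group -/
lemma comp_pow_id (B : Over S) [GrpObj B] {T : Over S} (x : T ⟶ B) (n : ℕ) :
    x ≫ ((𝟙 B : B ⟶ B) ^ n) = x ^ n := by
  rw [MonObj.comp_pow, Category.comp_id]

theorem etale_pow_of_fibres (B : Over S) [GrpObj B] [LocallyOfFinitePresentation B.hom] [Flat B.hom]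
    (n : ℕ) (hn : ∀ s : S, (n : S.residueField s) ≠ 0)
    (hcomm : ∀ s : S, IsCommMonObj (Red.bc (S.fromSpecResidueField s) B)) :
    Etale ((𝟙 B : B ⟶ B) ^ n).left := by
  refine FlatMorLib.etale_of_fibres B.hom B.hom _ (Over.w _) fun s => ?_
  haveI := hcomm s
  haveI : LocallyOfFiniteType (Red.bc (S.fromSpecResidueField s) B).hom :=
    inferInstanceAs (LocallyOfFiniteType (pullback.snd B.hom (S.fromSpecResidueField s)))
  have h := GrpSch.TangentMul.etale_zpow (Red.bc (S.fromSpecResidueField s) B) (n : ℤ)
    (by exact_mod_cast hn s)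
  rw [zpow_natCast, ← bc_map_pow] at h
  have hsq := (isPullback_bc_map (S.fromSpecResidueField s) ((𝟙 B : B ⟶ B) ^ n)).flip
  change Etale (pullback.snd _ (pullback.fst B.hom (S.fromSpecResidueField s)))
  have h2 := (IsPullback.of_hasPullback ((𝟙 B : B ⟶ B) ^ n).left
    (pullback.fst B.hom (S.fromSpecResidueField s)))
  rw [← (isPullback_bc_map (S.fromSpecResidueField s) ((𝟙 B : B ⟶ B) ^ n)).isoPullback_hom_snd] at h
  exact (MorphismProperty.cancel_left_of_respectsIso @Etale _ _).mp h

theorem etale_pow (B : Over S) [GrpObj B] [IsCommMonObj B] [LocallyOfFinitePresentation B.hom]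
    [Flat B.hom] (n : ℕ) (hn : ∀ s : S, (n : S.residueField s) ≠ 0) :
    Etale ((𝟙 B : B ⟶ B) ^ n).left :=
  etale_pow_of_fibres B n hn fun s => inferInstance

/-- an integer invertible in a local ring is invertible in every residue field of its spectrum -/
lemma natCast_residueField_ne_zero {R : Type u} [CommRing R] [IsLocalRing R] (n : ℕ)
    (hn : (n : IsLocalRing.ResidueField R) ≠ 0) (s : ↥(Spec (CommRingCat.of R))) :
    (n : (Spec (CommRingCat.of R)).residueField s) ≠ 0 := by
  have hu : IsUnit (n : R) := by
    rw [← IsLocalRing.residue_ne_zero_iff_isUnit, map_natCast]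
    exact hn
  have := hu.map (((Spec (CommRingCat.of R)).presheaf.germ ⊤ s trivial ≫
    (Spec (CommRingCat.of R)).residue s).hom.comp
      (Scheme.ΓSpecIso (CommRingCat.of R)).inv.hom)
  rw [map_natCast] at this
  exact this.ne_zero

/-- Two morphisms from the spectrum of a local ring which agree at the closed point and have the same
image under an unramified morphism agree. -/
theorem eq_of_formallyUnramified {A : CommRingCat.{u}} [IsLocalRing A] {X Y : Scheme.{u}} (u : X ⟶ Y)
    [FormallyUnramified u] [LocallyOfFiniteType u] {T : Scheme.{u}} (i : T ⟶ Spec A)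
    (hi : IsLocalRing.closedPoint A ∈ Set.range i) (a b : Spec A ⟶ X) (hu : a ≫ u = b ≫ u)
    (hab : i ≫ a = i ≫ b) : a = b := by
  let p : Spec A ⟶ pullback u u := pullback.lift a b hu
  let E := p ⁻¹ᵁ (pullback.diagonal u).opensRange
  have hE : E = ⊤ := by
    obtain ⟨t, ht⟩ := hi
    have h1 : IsLocalRing.closedPoint A ∈ E := by
      change p (IsLocalRing.closedPoint A) ∈ Set.range (pullback.diagonal u)
      rw [← ht, ← Scheme.Hom.comp_apply]
      have : i ≫ p = (i ≫ a) ≫ pullback.diagonal u := by
        apply pullback.hom_ext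
        · simp [p]
        · rw [Category.assoc, Category.assoc, pullback.lift_snd, pullback.diagonal_snd, Category.comp_id]
          exact hab.symm
      rw [this]
      exact ⟨_, rfl⟩
    exact (IsLocalRing.closed_point_mem_iff).mp h1
  have hrange : Set.range p ⊆ Set.range (pullback.diagonal u) := by
    rintro _ ⟨z, rfl⟩
    exact (show z ∈ E by rw [hE]; trivial)
  have h := IsOpenImmersion.lift_fac (pullback.diagonal u) p hrange
  have ha := h =≫ pullback.fst u u
  have hb := h =≫ pullback.snd u u
  simp only [Category.assoc, pullback.diagonal_fst, pullback.diagonal_snd, Category.comp_id, p,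
    pullback.lift_fst, pullback.lift_snd] at ha hb
  exact ha.symm.trans hb

end Groth.Agent.PowEtale
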